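import Groth.Agent.EfClosedLib.Noeth
import Groth.Agent.PBCLib.Descend
import Groth.Agent.EtClosedPts.PointStalk
import Mathlib.CategoryTheory.Limits.Types.Filtered
import Mathlib.Algebra.Category.Ring.FilteredColimits
import Mathlib.RingTheory.FiniteType

/-!
# Effacing cohomology on closed subschemes of affine schemes
-/

set_option autoImplicit false
set_option linter.style.haveILetI false
set_option backward.isDefEq.respectTransparency false
set_option backward.isDefEq.respectTransparency.types false
set_option maxHeartbeats 1000000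
set_option synthInstance.maxHeartbeats 400000

universe u

open CategoryTheory CategoryTheory.Limits AlgebraicGeometry Opposite
open Groth.Agent.EtLimLib

attribute [local instance] Groth.Agent.S0101.result

noncomputable section

namespace Groth.Agent.EfClosedLib

section Rings

variable {A B : CommRingCat.{u}} (φ : A ⟶ B)

/-- The subring generated by a finite set. -/
abbrev stageSub (s : Finset A) : Subalgebra ℤ A := Algebra.adjoin ℤ (s : Set A)

theorem stageSub_mono {s t : Finset A} (h : s ≤ t) : stageSub s ≤ stageSub t :=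
  Algebra.adjoin_mono (Finset.coe_subset.2 h)

/-- The map of a stage to the quotient. -/
abbrev stageHom (s : Finset A) : (stageSub s : Subalgebra ℤ A) →+* B := φ.hom.comp (stageSub s).subtype

/-- The kernel at a stage. -/
abbrev stageKer (s : Finset A) : Ideal (stageSub s : Subalgebra ℤ A) := RingHom.ker (stageHom φ s)

/-- The subrings. -/
def ringDiag : Finset A ⥤ CommRingCat.{u} where
  obj s := CommRingCat.of (stageSub s)
  map {s t} h := CommRingCat.ofHom (Subalgebra.inclusion (stageSub_mono (leOfHom h))).toRingHom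

/-- Their quotients. -/
def quotDiag : Finset A ⥤ CommRingCat.{u} where
  obj s := CommRingCat.of ((stageSub s : Subalgebra ℤ A) ⧸ stageKer φ s)
  map {s t} h := CommRingCat.ofHom (Ideal.quotientMap (stageKer φ t)
    (Subalgebra.inclusion (stageSub_mono (leOfHom h))).toRingHom fun _ hx => hx)
  map_id s := CommRingCat.hom_ext (Ideal.Quotient.ringHom_ext rfl)
  map_comp f g := CommRingCat.hom_ext (Ideal.Quotient.ringHom_ext rfl)

/-- The cocone of the subrings. -/
def ringCocone : Cocone (ringDiag (A := A)) where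
  pt := A
  ι := { app := fun s => CommRingCat.ofHom (stageSub s).subtype
         naturality := fun _ _ _ => rfl }

/-- The cocone of the quotients. -/
def quotCocone : Cocone (quotDiag φ) where
  pt := B
  ι := { app := fun s => CommRingCat.ofHom (RingHom.kerLift (stageHom φ s))
         naturality := fun _ _ _ => CommRingCat.hom_ext (Ideal.Quotient.ringHom_ext rfl) }

theorem nonempty_isColimit_ringCocone : Nonempty (IsColimit (ringCocone (A := A))) := by
  classical
  haveI : PreservesColimit (ringDiag (A := A)) (forget CommRingCat.{u}) := inferInstance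
  haveI : ReflectsColimit (ringDiag (A := A)) (forget CommRingCat.{u}) := reflectsColimit_of_reflectsIsomorphisms _ _
  refine ⟨isColimitOfReflects (forget CommRingCat.{u}) (Types.FilteredColimit.isColimitOf' _ _ (fun x => ?_)
    fun s x y e => ⟨s, 𝟙 s, ?_⟩)⟩
  · exact ⟨{x}, ⟨x, Algebra.subset_adjoin (by simp)⟩, rfl⟩
  · exact congrArg _ (Subtype.ext e)

theorem nonempty_isColimit_quotCocone (hφ : Function.Surjective φ.hom) : Nonempty (IsColimit (quotCocone φ)) := by
  classical
  haveI : PreservesColimit (quotDiag φ) (forget CommRingCat.{u}) := inferInstance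
  haveI : ReflectsColimit (quotDiag φ) (forget CommRingCat.{u}) := reflectsColimit_of_reflectsIsomorphisms _ _
  refine ⟨isColimitOfReflects (forget CommRingCat.{u}) (Types.FilteredColimit.isColimitOf' _ _ (fun x => ?_)
    fun s x y e => ⟨s, 𝟙 s, ?_⟩)⟩
  · obtain ⟨a, ha⟩ := hφ x
    exact ⟨{a}, Ideal.Quotient.mk _ (⟨a, Algebra.subset_adjoin (by simp)⟩ : stageSub ({a} : Finset A)), ha.symm⟩
  · exact congrArg _ (RingHom.kerLift_injective (stageHom φ s) e)

end Rings

variable {Z X : Scheme.{u}} (i : Z ⟶ X) [IsClosedImmersion i] [IsAffine X]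

/-- Effacement on closed subschemes of affine schemes. -/
theorem effAlong_affine : EffAlong i := fun n hn F hF q hq c => by
  classical
  haveI : IsAffine Z := isAffine_of_isAffineHom i
  let φ : Γ(X, ⊤) ⟶ Γ(Z, ⊤) := i.appTop
  have hφ : Function.Surjective φ.hom := IsClosedImmersion.isAffine_surjective_of_isAffine i |>.2
  obtain ⟨hA⟩ := nonempty_isColimit_ringCocone (A := Γ(X, ⊤))
  obtain ⟨hB⟩ := nonempty_isColimit_quotCocone φ hφ
  let cX : Cone ((ringDiag (A := Γ(X, ⊤))).op ⋙ Scheme.Spec) :=
    { pt := X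
      π := (Functor.const _).map X.isoSpec.hom ≫ (Scheme.Spec.mapCone (ringCocone (A := Γ(X, ⊤))).op).π }
  let cZ : Cone ((quotDiag φ).op ⋙ Scheme.Spec) :=
    { pt := Z
      π := (Functor.const _).map Z.isoSpec.hom ≫ (Scheme.Spec.mapCone (quotCocone φ).op).π }
  let SX : Sys (Finset Γ(X, ⊤)) :=
    { Xs := (ringDiag (A := Γ(X, ⊤))).op ⋙ Scheme.Spec
      aff := fun a b h => inferInstanceAs (IsAffineHom (Spec.map _))
      qc := fun a => inferInstanceAs (CompactSpace ↥(Spec _))
      qs := fun a => inferInstanceAs (QuasiSeparatedSpace ↥(Spec _))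
      c := cX
      hc := IsLimit.ofIsoLimit (isLimitOfPreserves Scheme.Spec hA.op) (Cone.ext X.isoSpec (fun s => rfl)).symm }
  let SY : Sys (Finset Γ(X, ⊤)) :=
    { Xs := (quotDiag φ).op ⋙ Scheme.Spec
      aff := fun a b h => inferInstanceAs (IsAffineHom (Spec.map _))
      qc := fun a => inferInstanceAs (CompactSpace ↥(Spec _))
      qs := fun a => inferInstanceAs (QuasiSeparatedSpace ↥(Spec _))
      c := cZ
      hc := IsLimit.ofIsoLimit (isLimitOfPreserves Scheme.Spec hB.op) (Cone.ext Z.isoSpec (fun s => rfl)).symm }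
  let r : ∀ s : Finset Γ(X, ⊤), SY.X s ⟶ SX.X s := fun s =>
    Spec.map (CommRingCat.ofHom (Ideal.Quotient.mk (stageKer φ s)))
  refine PBCLib.efface_of_systems SX SY i r (fun {a b} h => ?_) (fun a => ?_) q (fun a G hG y => ?_) F hF c
  · show Spec.map _ ≫ Spec.map _ = Spec.map _ ≫ Spec.map _
    rw [← Spec.map_comp, ← Spec.map_comp]
    rfl
  · show (Z.isoSpec.hom ≫ Spec.map _) ≫ Spec.map _ = i ≫ X.isoSpec.hom ≫ Spec.map _
    rw [← Scheme.isoSpec_hom_naturality_assoc, Category.assoc, ← Spec.map_comp, ← Spec.map_comp]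
    rfl
  · haveI : IsNoetherianRing (stageSub a : Subalgebra ℤ Γ(X, ⊤)) :=
      isNoetherianRing_of_fg (Subalgebra.fg_adjoin_finset a)
    haveI : IsClosedImmersion (r a) := IsClosedImmersion.spec_of_surjective _ Ideal.Quotient.mk_surjective
    haveI : IsAffine (SX.X a) := inferInstanceAs (IsAffine (Spec _))
    haveI : IsNoetherian (SX.X a) := inferInstanceAs (IsNoetherian (Spec (CommRingCat.of (stageSub a))))
    exact effAlong_noetherian (r a) n hn G hG q hq y

/-- Effacement of classes of torsion sheaves. -/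
theorem exists_efface_torsion {F : EtCoh.Ab X} (hF : EtCoh.IsTorsion F) (q : ℕ) (hq : 0 < q)
    (c : EtCoh.H Z ((EtCoh.pull i).obj F) q) :
    ∃ (M : EtCoh.Ab X) (_ : EtCoh.IsTorsion M) (a : F ⟶ M) (_ : Mono a),
      Sheaf.H.map ((EtCoh.pull i).map a) q c = 0 := by
  haveI : IsAffine Z := isAffine_of_isAffineHom i
  obtain ⟨J, _, _, D, cc, hc, hD, ⟨e⟩⟩ := S0134.result X F hF
  haveI := CohColim.preserves_HF Z q J
  haveI : PreservesColimitsOfSize.{u + 1, u + 1} (EtCoh.pull i) := (EtCoh.pullPushAdj i).leftAdjoint_preservesColimits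
  let Φ := EtCoh.pull i ⋙ EtCoh.HF Z q
  obtain ⟨j, y, hy⟩ := Concrete.isColimit_exists_rep (D ⋙ Φ) (isColimitOfPreserves Φ hc) (Φ.map e.inv c)
  obtain ⟨n, hn, hDn⟩ := FLCLib.exists_killedBy (hD j)
  obtain ⟨M, a, ha, hM, h0⟩ := effAlong_affine i n hn (D.obj j) hDn q hq y
  haveI := ha
  let g : D.obj j ⟶ F := cc.ι.app j ≫ e.hom
  refine ⟨pushout a g, ?_, pushout.inr a g, inferInstance, ?_⟩
  · haveI : Epi (biprod.desc (pushout.inl a g) (pushout.inr a g)) := Preadditive.epi_of_cancel_zero _ fun {T} h hh => by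
      refine pushout.hom_ext ?_ ?_
      · simpa using congrArg (biprod.inl ≫ ·) hh
      · simpa using congrArg (biprod.inr ≫ ·) hh
    refine EtClosedPts.isTorsion_of_stalks fun Ω _ _ ξ b => ?_
    obtain ⟨z, rfl⟩ := (EtPtsLib.epi_iff_ab (biprod.desc (pushout.inl a g) (pushout.inr a g))).1 inferInstance Ω ξ b
    have e1 : biprod.desc (pushout.inl a g) (pushout.inr a g) =
        biprod.fst ≫ pushout.inl a g + biprod.snd ≫ pushout.inr a g := by
      refine biprod.hom_ext' _ _ ?_ ?_ <;> simp
    haveI : (EtCoh.stalk ξ).Additive := Functor.additive_of_preserves_binary_products _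
    rw [e1, Functor.map_add]
    refine IsOfFinAddOrder.add ?_ ?_
    · refine (congr($((EtCoh.stalk ξ).map_comp biprod.fst (pushout.inl a g)) z)) ▸ ?_
      exact ((EtCoh.stalk ξ).map (pushout.inl a g)).hom.isOfFinAddOrder
        (EtClosedPts.isOfFinAddOrder_of_isTorsion ξ (fun U t v => ⟨U, 𝟙 U, ⟨v, rfl⟩, isOfFinAddOrder_iff_nsmul_eq_zero.2 ⟨n, hn, hM U _⟩⟩) _)
    · refine (congr($((EtCoh.stalk ξ).map_comp biprod.snd (pushout.inr a g)) z)) ▸ ?_
      exact ((EtCoh.stalk ξ).map (pushout.inr a g)).hom.isOfFinAddOrder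
        (EtClosedPts.isOfFinAddOrder_of_isTorsion ξ hF _)
  · show Φ.map (pushout.inr a g) c = 0
    have hc' : Φ.map g y = c := by
      rw [Functor.map_comp, ConcreteCategory.comp_apply]
      refine (congrArg (Φ.map e.hom) hy).trans ?_
      rw [← ConcreteCategory.comp_apply, ← Functor.map_comp, e.inv_hom_id, Φ.map_id]
      rfl
    rw [← hc', ← ConcreteCategory.comp_apply, ← Functor.map_comp, ← pushout.condition, Functor.map_comp,
      ConcreteCategory.comp_apply]
    exact (congrArg (Φ.map (pushout.inl a g)) h0).trans (map_zero (Φ.map (pushout.inl a g)).hom)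

end Groth.Agent.EfClosedLib
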