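import Groth.Agent.PBCLib.Embed
import Groth.Agent.S0091

/-!
# Effacing cohomology on closed subschemes of noetherian affine schemes
-/

set_option autoImplicit false
set_option linter.style.haveILetI false
set_option backward.isDefEq.respectTransparency false
set_option backward.isDefEq.respectTransparency.types false
set_option maxHeartbeats 1000000
set_option synthInstance.maxHeartbeats 400000

universe u

open CategoryTheory CategoryTheory.Limits AlgebraicGeometry Opposite
open Groth.Agent.PBCLib Groth.Agent.FLCLib Groth.Agent.EtPtsLib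

noncomputable section

namespace Groth.Agent.EfClosedLib

/-- Classes on the source of `i` are effaceable by sheaves killed by the same integer on the target. -/
def EffAlong {Z X : Scheme.{u}} (i : Z ⟶ X) : Prop :=
  ∀ (n : ℕ), 0 < n → ∀ (F : EtCoh.Ab X), EtCoh.KilledBy n F → ∀ q : ℕ, 0 < q →
    ∀ c : EtCoh.H Z ((EtCoh.pull i).obj F) q,
      ∃ (M : EtCoh.Ab X) (a : F ⟶ M), Mono a ∧ EtCoh.KilledBy n M ∧
        Sheaf.H.map ((EtCoh.pull i).map a) q c = 0

/-- Closed subschemes of affine absolutely integrally closed schemes. -/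
theorem constAcyclic_closed {C X' : Scheme.{u}} [IsAffine X'] (hX : IsAICScheme X') (j : C ⟶ X')
    [IsClosedImmersion j] : ConstAcyclic C := fun d hd q hq => by
  haveI := hX.isIntegral
  haveI : NeZero d := ⟨hd.ne'⟩
  haveI := hX.isAlgClosed_functionField
  exact S0091.result hX.isIntegrallyClosed_stalk j (ZMod d) q hq

variable {Z X : Scheme.{u}} (i : Z ⟶ X) [IsClosedImmersion i] [IsAffine X]

/-- Direct images from geometric points are acyclic on closed subschemes. -/
theorem subsingleton_H_push_point {K : Type u} [Field K] [IsAlgClosed K] (g : Spec (CommRingCat.of K) ⟶ X)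
    (G : EtCoh.Ab (Spec (CommRingCat.of K))) (hG : Finite (G.obj.obj (op (EtCoh.top (Spec (CommRingCat.of K))))))
    (q : ℕ) (hq : 0 < q) : Subsingleton (EtCoh.H Z ((EtCoh.pull i).obj ((EtCoh.push g).obj G)) q) := by
  obtain ⟨eG⟩ := nonempty_iso_const G
  haveI := hG
  let M := G.obj.obj (op (EtCoh.top (Spec (CommRingCat.of K))))
  let X' := g.normalization
  let η : Spec (CommRingCat.of K) ⟶ X' := g.toNormalization
  let π : X' ⟶ X := g.fromNormalization
  have hX' : IsAICScheme X' := isAICScheme_normalization g (isAICScheme_spec_field K)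
  haveI : IsIso ((EtCoh.pullPushAdj η).unit.app (ConstGenLib.C M)) :=
    ConstGenLib.isIso_unit η M (connAlong_of_aic hX' η)
  let eη : ConstGenLib.C (X := X') M ≅ (EtCoh.push η).obj G :=
    asIso ((EtCoh.pullPushAdj η).unit.app (ConstGenLib.C M)) ≪≫
      (EtCoh.push η).mapIso ((EtCore.pullConstIso η).app M ≪≫ eG)
  let eg : (EtCoh.push g).obj G ≅ (EtCoh.push π).obj (ConstGenLib.C (X := X') M) :=
    (EtCoh.pushCongr (show g = η ≫ π from (Scheme.Hom.toNormalization_fromNormalization g).symm)).app G ≪≫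
      ((EtCoh.pushComp π η).app G).symm ≪≫ (EtCoh.push π).mapIso eη.symm
  haveI : IsIntegralHom π := inferInstanceAs (IsIntegralHom g.fromNormalization)
  haveI : IsAffine X' := isAffine_of_isAffineHom π
  have hsq : IsPullback (pullback.fst π i) (pullback.snd π i) π i := IsPullback.of_hasPullback π i
  haveI : IsClosedImmersion (pullback.fst π i) := MorphismProperty.of_isPullback hsq.flip inferInstance
  haveI : IsIntegralHom (pullback.snd π i) := MorphismProperty.of_isPullback hsq inferInstance
  haveI := EtPtsLib.isIso_baseChange0 π i (pullback.snd π i) (pullback.fst π i) hsq (ConstGenLib.C (X := X') M)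
  let e₁ : (EtCoh.pull i).obj ((EtCoh.push g).obj G) ≅
      (EtCoh.push (pullback.snd π i)).obj (ConstGenLib.C (X := pullback π i) M) :=
    (EtCoh.pull i).mapIso eg ≪≫
      asIso (EtCoh.baseChange0 π i (pullback.snd π i) (pullback.fst π i) hsq.w (ConstGenLib.C (X := X') M)) ≪≫
      (EtCoh.push (pullback.snd π i)).mapIso ((EtCore.pullConstIso (pullback.fst π i)).app M)
  obtain ⟨a₁⟩ := H_equiv_of_iso e₁ q
  obtain ⟨a₂⟩ := EtVanish.nonempty_H_push_equiv (pullback.snd π i) (ConstGenLib.C (X := pullback π i) M) q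
  haveI := (subsingleton_H_iff _ q).2 ((constAcyclic_closed hX' (pullback.fst π i)).finite M q hq)
  exact (a₁.trans a₂).toEquiv.subsingleton

/-- A constructible sheaf embeds into one without higher cohomology on the closed subscheme. -/
theorem exists_mono_vanish [IsNoetherian X] {n : ℕ} {E : EtCoh.Ab X}
    (hE : EtPBC.IsConstructible E) (hEn : EtCoh.KilledBy n E) :
    ∃ (M : EtCoh.Ab X) (a : E ⟶ M), Mono a ∧ EtCoh.KilledBy n M ∧
      ∀ q : ℕ, 0 < q → Subsingleton (EtCoh.H Z ((EtCoh.pull i).obj M) q) := by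
  classical
  have hgen : GenConst E := (genCard_of_isConstructible hE).genConst
  obtain ⟨P, hP⟩ := exists_finite_detect hgen ⊤
  let x : Fin P.card → X := fun j => (P.equivFin.symm j).1
  let G := fun j => (EtCoh.pull (geomPtAlg (x j))).obj E
  let M := fun j => (EtCoh.push (geomPtAlg (x j))).obj (G j)
  let a : E ⟶ ⨁ M := biproduct.lift fun j => (EtCoh.pullPushAdj (geomPtAlg (x j))).unit.app E
  refine ⟨⨁ M, a, ?_, ?_, fun q hq => ?_⟩
  · refine (mono_iff_ab a).2 fun Ω _ _ ζ => ?_
    refine (injective_iff_map_eq_zero ((EtCoh.stalk ζ).map a).hom).2 fun e he => hP Ω ζ trivial e fun y hy => ?_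
    obtain ⟨j, rfl⟩ : ∃ j, x j = y := ⟨P.equivFin ⟨y, hy⟩, by simp [x]⟩
    rw [← biproduct.lift_π (fun j => (EtCoh.pullPushAdj (geomPtAlg (x j))).unit.app E) j, stalk_comp]
    exact (congrArg _ he).trans (map_zero _)
  · refine killedBy_biproduct fun j => CompBCLib.killedBy_push _ ?_
    rw [killedBy_iff] at hEn ⊢
    rw [← CategoryTheory.Functor.map_id, ← Functor.map_nsmul, hEn, Functor.map_zero]
  · haveI := HF_additive Z q
    haveI : (EtCoh.pull i).Additive := (EtCoh.pullPushAdj i).left_adjoint_additive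
    rw [subsingleton_H_iff]
    refine isZero_of_decomp (EtCoh.pull i ⋙ EtCoh.HF Z q) (fun j => biproduct.π M j) (fun j => biproduct.ι M j)
      biproduct.total.symm fun j => ?_
    refine (subsingleton_H_iff _ q).1 (subsingleton_H_push_point i (geomPtAlg (x j)) (G j)
      (finite_sections_of_stalk _ ?_) q hq)
    haveI : Finite ↑((Scheme.pointSmallEtale (𝟙 _ ≫ geomPtAlg (x j))).presheafFiber.obj E.obj) :=
      finite_stalk_of_genConst hgen (𝟙 _ ≫ geomPtAlg (x j))
    exact Finite.of_surjective _ (bijective_unitStalk (geomPtAlg (x j)) (𝟙 _) E).2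

/-- Effacement on closed subschemes of noetherian affine schemes. -/
theorem effAlong_noetherian [IsNoetherian X] : EffAlong i := fun n hn F hF q hq c => by
  let P : ObjectProperty (EtCoh.Ab X) := fun E => EtPBC.IsConstructible E ∧ EtCoh.KilledBy n E
  have hsys : SysHyp P F := by
    refine ⟨fun E hE => hE.1, fun {E E'} e hE => ⟨isConstructible_of_iso e hE.1, ?_⟩, fun E hE g => ?_⟩
    · exact killedBy_of_epi e.hom hE.2
    · have hz : (n • 𝟙 E) ≫ g = 0 := by
        rw [Preadditive.nsmul_comp, Category.id_comp, ← Category.comp_id g, ← Preadditive.comp_nsmul,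
          (killedBy_iff n F).1 hF, comp_zero]
      refine ⟨cokernel (n • 𝟙 E), ⟨(isConstructible_kernel_cokernel _ hE hE).2, ?_⟩, cokernel.π _,
        cokernel.desc _ g hz, cokernel.π_desc _ _ _⟩
      rw [killedBy_iff, ← cancel_epi (cokernel.π (n • 𝟙 E)), comp_zero, Preadditive.comp_nsmul, Category.comp_id,
        ← Category.id_comp (cokernel.π (n • 𝟙 E)), ← Preadditive.nsmul_comp]
      exact cokernel.condition _
  have hFt : EtCoh.IsTorsion F := fun U s x =>
    ⟨U, 𝟙 U, ⟨x, rfl⟩, isOfFinAddOrder_iff_nsmul_eq_zero.2 ⟨n, hn, hF U _⟩⟩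
  haveI := hsys.isFiltered
  obtain ⟨hc⟩ := hsys.nonempty_isColimit hFt
  haveI : IsAffine Z := isAffine_of_isAffineHom i
  haveI := CohColim.preserves_HF Z q (SysObj P F)
  haveI : PreservesColimitsOfSize.{u + 1, u + 1} (EtCoh.pull i) :=
    (EtCoh.pullPushAdj i).leftAdjoint_preservesColimits
  let Φ := EtCoh.pull i ⋙ EtCoh.HF Z q
  obtain ⟨j, y, hy⟩ := Concrete.isColimit_exists_rep (sysDiag P F ⋙ Φ) (isColimitOfPreserves Φ hc) c
  obtain ⟨M, a, ha, hMn, hMv⟩ := exists_mono_vanish i j.hP.1 j.hP.2
  haveI := ha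
  refine ⟨pushout a j.g, pushout.inr a j.g, inferInstance, ?_, ?_⟩
  · rw [killedBy_iff] at hMn hF ⊢
    refine pushout.hom_ext ?_ ?_
    · rw [comp_zero, Preadditive.comp_nsmul, Category.comp_id, ← Category.id_comp (pushout.inl a j.g),
        ← Preadditive.nsmul_comp, hMn, zero_comp]
    · rw [comp_zero, Preadditive.comp_nsmul, Category.comp_id, ← Category.id_comp (pushout.inr a j.g),
        ← Preadditive.nsmul_comp, hF, zero_comp]
  · show Φ.map (pushout.inr a j.g) c = 0
    rw [← hy]
    change Φ.map (pushout.inr a j.g) (Φ.map j.g y) = 0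
    rw [← ConcreteCategory.comp_apply, ← Functor.map_comp, ← pushout.condition, Functor.map_comp,
      ConcreteCategory.comp_apply]
    haveI := hMv q hq
    refine (congrArg (Φ.map (pushout.inl a j.g)) (Subsingleton.elim
      (α := EtCoh.H Z ((EtCoh.pull i).obj M) q) (Φ.map a y) 0)).trans ?_
    exact map_zero (Φ.map (pushout.inl a j.g)).hom

end Groth.Agent.EfClosedLib
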